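import Cfsg.Agent.H336.OT.EndCore
import Cfsg.Agent.H876.OT.NoEl

/-!
# S2539: `S_F = ∅`, `q` odd: the assembly

`empty_odd` : a least bad group `F` with `S_F = ∅` in odd characteristic is impossible, given `Ctx`, `NoElF .. 2` and
two non-orthogonal, non-proportional roots in `Psi`.
`exists_three` : three elements of order two modulo `Z(F)`.
-/

set_option autoImplicit false

namespace Cfsg.Agent.H181.OT

open Subgroup Cfsg.Lie Cfsg.Lie.ChevalleyDatum Cfsg.Agent.H412.OT Cfsg.Agent.H186.OT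
open Cfsg.Agent.ChevalleyStructure Cfsg.Agent.ChevalleyStructure.Elts

universe u

variable {D : ChevalleyDatum} {K : Type u} [Field K]

theorem mem_seven (hm : D ∈ [chevG2, chevD4, chevF4, chevE6, chevE7, chevE8]) :
    D ∈ [chevG2, chevB2, chevD4, chevF4, chevE6, chevE7, chevE8] := by
  simp only [List.mem_cons, List.not_mem_nil, or_false] at hm ⊢
  tauto

/-- some simple root pairs to an odd number with `a` -/
theorem exists_odd (hm : D ∈ [chevG2, chevD4, chevF4, chevE6, chevE7, chevE8]) {a : ℕ} (ha : a < D.nroots) :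
    ∃ r < D.nroots, ¬ Even (pr D r a) := by
  have G := RootComb.good_of_mem (mem_seven hm)
  obtain ⟨m, hm⟩ := Cfsg.Agent.H134.PairFacts.exists_one (mem_seven hm) (Cfsg.Agent.H134.PairFacts.chk1_of_mem hm) ha
  by_contra hcon
  push Not at hcon
  have h1 : Even (Cfsg.Agent.ChevalleyStructure.St.Conj.lin D m a) := by
    rw [Cfsg.Agent.ChevalleyStructure.St.Conj.lin_def]
    refine Finset.even_sum _ fun k hk => ?_
    have h2 := hcon _ (G.simple_lt (Finset.mem_range.1 hk))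
    have h3 : pr D (D.simple k) a = D.cartan k a := RootWord.car_simple G (Finset.mem_range.1 hk) a
    rw [h3] at h2
    exact h2.mul_left _
  rw [hm] at h1
  exact absurd h1 (by decide)

/-- non-orthogonal, non-proportional roots: some pairing is odd -/
theorem exists_odd_pair (hm : D ∈ [chevG2, chevD4, chevF4, chevE6, chevE7, chevE8]) {P : Set ℕ}
    (hP : ∀ a ∈ P, a < D.nroots) (hr : ∃ a ∈ P, ∃ b ∈ P, b ≠ a ∧ b ≠ D.neg a ∧ pr D a b ≠ 0) :
    ∃ a ∈ P, ∃ b ∈ P, ¬ Even (pr D a b) := by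
  obtain ⟨a, ha, b, hb, hb1, hb2, hab⟩ := hr
  have h2 : 0 ≤ pr D a b * pr D b a ∧ pr D a b * pr D b a ≤ 3 ∧ (pr D a b = 0 ↔ pr D b a = 0) :=
    Cfsg.Agent.H134.PairFacts.pair (mem_seven hm) (hP a ha) (hP b hb) hb1 hb2
  have h3 : pr D b a ≠ 0 := fun h => hab (h2.2.2.2 h)
  by_contra hcon
  push Not at hcon
  obtain ⟨x, hx⟩ := hcon a ha b hb
  obtain ⟨y, hy⟩ := hcon b hb a ha
  have h4 : pr D a b * pr D b a ≠ 0 := mul_ne_zero hab h3
  rw [hx, hy] at h4 h2
  have h5 : (x + x) * (y + y) = 4 * (x * y) := by ring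
  rw [h5] at h4 h2
  omega

theorem pr_self (hm : D ∈ [chevG2, chevD4, chevF4, chevE6, chevE7, chevE8]) {a : ℕ} (ha : a < D.nroots) :
    pr D a a = 2 := (RootComb.good_of_mem (mem_seven hm)).car_self ha

theorem even_of_zpow (h2 : (2 : K) ≠ 0) {k : ℤ} (hk : ((-1 : K)) ^ k = 1) : Even k := by
  by_contra ho
  rw [Int.not_even_iff_odd] at ho
  rw [ho.neg_one_zpow] at hk
  apply h2
  have : (1 : K) + 1 = 0 := by
    nth_rewrite 1 [← hk]
    ring
  rw [← this]; norm_num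

/-- Two elements of `T` with square `1` that are different modulo `Z(F)` and not in `Z(F)`. -/
theorem exists_two (hm : D ∈ [chevG2, chevD4, chevF4, chevE6, chevE7, chevE8]) (h2 : (2 : K) ≠ 0)
    {F : Subgroup (GL D.Idx K)} (hpsi : ∃ a ∈ Psi D K F, ∃ b ∈ Psi D K F, ¬ Even (pr D a b)) :
    ∃ s ∈ D.diagonalSubgroup K, ∃ t ∈ D.diagonalSubgroup K, s ^ 2 = 1 ∧ t ^ 2 = 1 ∧ s ∉ Zf F ∧ t ∉ Zf F ∧
      s * t ∉ Zf F := by
  obtain ⟨a, ha, b, hb, hab⟩ := hpsi
  obtain ⟨r, hr, hra⟩ := exists_odd hm ha.1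
  have hD := inList_of_mem hm
  have hneg1 : (-1 : K) ≠ 0 := by simp
  have hT : ∀ r < D.nroots, hG (F := K) hD r (-1) ∈ D.diagonalSubgroup K := fun r hr => hG_mem hD hr hneg1
  have hchi : ∀ r < D.nroots, ∀ s < D.nroots, chi D K (hG hD r (-1)) s = (-1) ^ pr D r s := fun r hr s hs =>
    chi_hG hD hr hs hneg1
  have hsq : ∀ r < D.nroots, hG (F := K) hD r (-1) ^ 2 = 1 := by
    intro r hr
    rw [pow_two]
    apply Cfsg.Agent.H876.OT.eq_of_chi hD (mul_mem (hT r hr) (hT r hr)) (one_mem _)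
    intro s hs
    rw [chi_mul hD (hT r hr) (hT r hr), hchi r hr s hs, chi_one, ← mul_zpow]
    simp
  have hra' : chi D K (hG hD r (-1)) a ≠ 1 := by
    rw [hchi r hr a ha.1]
    exact fun h1 => hra (even_of_zpow h2 h1)
  refine ⟨hG hD a (-1), hT a ha.1, hG hD r (-1), hT r hr, hsq a ha.1, hsq r hr, ?_, ?_, ?_⟩
  · intro h1
    have h3 := hb.2 _ h1
    rw [hchi a ha.1 b hb.1] at h3
    exact hab (even_of_zpow h2 h3)
  · intro h1
    exact hra' (ha.2 _ h1)
  · intro h1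
    have h3 := ha.2 _ h1
    rw [chi_mul hD (hT a ha.1) (hT r hr), hchi a ha.1 a ha.1, pr_self hm ha.1] at h3
    apply hra'
    simpa using h3

/-- There is `c` with `c ^ 4 ≠ 1`. -/
theorem exists_pow_four_ne [Fintype K] (hq : 13 ≤ Fintype.card K) : ∃ c : K, c ≠ 0 ∧ c ^ 4 ≠ 1 := by
  classical
  obtain ⟨g, hg⟩ := IsCyclic.exists_ofOrder_eq_natCard (α := Kˣ)
  refine ⟨g, g.ne_zero, fun h => ?_⟩
  have h1 : g ^ 4 = 1 := Units.ext (by rw [Units.val_pow_eq_pow_val, h, Units.val_one])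
  have h2 := Nat.le_of_dvd (by norm_num) (orderOf_dvd_of_pow_eq_one h1)
  rw [hg, Nat.card_eq_fintype_card, Fintype.card_units] at h2
  omega

/-- **The assembly for `q` odd, `S_F = ∅`.** -/
theorem empty_odd_of [Fintype K] (hm : D ∈ [chevG2, chevD4, chevF4, chevE6, chevE7, chevE8])
    (hq : 13 ≤ Fintype.card K) (h2 : (2 : K) ≠ 0) {F : Subgroup (GL D.Idx K)} (hT : D.diagonalSubgroup K ≤ F)
    (c : H298.OT.Ctx ((D.diagonalSubgroup K).subgroupOf F)) (hN : NoElF D K F 2)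
    (hpsi : ∃ a ∈ Psi D K F, ∃ b ∈ Psi D K F, ¬ Even (pr D a b)) : False := by
  have hD := inList_of_mem hm
  have hfin : Finite (GL D.Idx K) := by
    have : Fintype (GL D.Idx K) := Fintype.ofFinite _
    infer_instance
  have hfinF : Finite (F ⧸ center F) := inferInstance
  have hmk : ∀ {x : GL D.Idx K} (hx : x ∈ F), x ∉ Zf F →
      QuotientGroup.mk' (center F) (⟨x, hx⟩ : F) ≠ 1 := by
    intro x hx hxZ h1
    rw [H298.OT.Ctx.mk_eq_one_iff, ← coe_mem_Zf] at h1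
    exact hxZ h1
  have hmem : ∀ {x : GL D.Idx K} (hx : x ∈ D.diagonalSubgroup K),
      QuotientGroup.mk' (center F) (⟨x, hT hx⟩ : F) ∈
        ((D.diagonalSubgroup K).subgroupOf F).map (QuotientGroup.mk' (center F)) := fun {x} hx =>
    mem_map_of_mem _ (mem_subgroupOf.2 hx)
  refine H336.OT.false_of_noEl_two c.core (hN.noEl hT c) ?_ ?_
  · obtain ⟨s, hs, t, ht, hs2, ht2, hsZ, htZ, hstZ⟩ := exists_two hm h2 hpsi
    have e1 : ∀ {x : GL D.Idx K} (hx : x ∈ D.diagonalSubgroup K), x ^ 2 = 1 → x ∉ Zf F →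
        orderOf (QuotientGroup.mk' (center F) (⟨x, hT hx⟩ : F)) = 2 := by
      intro x hx hx2 hxZ
      refine orderOf_eq_prime ?_ (hmk _ hxZ)
      rw [← map_pow]
      have : (⟨x, hT hx⟩ : F) ^ 2 = 1 := Subtype.ext hx2
      rw [this, map_one]
    refine ⟨_, hmem hs, _, hmem ht, e1 hs hs2 hsZ, e1 ht ht2 htZ, fun he => ?_⟩
    refine hmk (mul_mem (hT hs) (hT ht)) hstZ ?_
    have h3 : QuotientGroup.mk' (center F) (⟨t, hT ht⟩ : F) ^ 2 = 1 := by
      rw [← map_pow]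
      have : (⟨t, hT ht⟩ : F) ^ 2 = 1 := Subtype.ext ht2
      rw [this, map_one]
    have h4 : (⟨s * t, mul_mem (hT hs) (hT ht)⟩ : F) = ⟨s, hT hs⟩ * ⟨t, hT ht⟩ := rfl
    rw [h4, map_mul, he, ← pow_two, h3]
  · obtain ⟨a, ha, -⟩ := hpsi
    obtain ⟨c', hc0, hc4⟩ := exists_pow_four_ne hq
    have hh := hG_mem (K := K) hD ha.1 hc0
    refine ⟨_, hmem hh, fun h3 => ?_⟩
    rw [← map_mul] at h3
    refine hmk (mul_mem (hT hh) (hT hh)) ?_ h3
    intro h4
    have h5 := ha.2 _ h4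
    rw [chi_mul hD hh hh, chi_hG hD ha.1 ha.1 hc0, pr_self hm ha.1] at h5
    apply hc4
    rw [← h5]
    norm_cast
    ring

/-- **The assembly for `q` odd, `S_F = ∅`** in the form of helper186. -/
theorem empty_odd {K : Type u} [Field K] [Fintype K] {p : ℕ} [Fact p.Prime] [CharP K p] {D : ChevalleyDatum}
    (hy : Hyp K p D) (hp : p ≠ 2) {F : Subgroup (GL D.Idx K)} (h : MinBad D K F)
    (c : H298.OT.Ctx ((D.diagonalSubgroup K).subgroupOf F)) (h2 : NoElF D K F 2)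
    (hr : ∃ a ∈ Psi D K F, ∃ b ∈ Psi D K F, b ≠ a ∧ b ≠ D.neg a ∧ pr D a b ≠ 0) : False := by
  have h3 : (2 : K) ≠ 0 := by
    intro h4
    have h5 : ((2 : ℕ) : K) = 0 := by exact_mod_cast h4
    rw [CharP.cast_eq_zero_iff K p] at h5
    exact hp ((Nat.prime_dvd_prime_iff_eq Fact.out Nat.prime_two).1 h5)
  exact empty_odd_of hy.mem hy.card h3 h.tor c h2 (exists_odd_pair hy.mem (fun a ha => ha.1) hr)

end Cfsg.Agent.H181.OT
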